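import Groth.Agent.CurveFin75.PointDivisor
import Groth.Agent.CurveBC.Main
import Groth.Agent.CurveFF.Degree

/-!
A smooth proper curve with only constant global functions over an arbitrary field: its function
field has exact constant field, the degrees and genera agree, invertible modules up to isomorphism
are divisor classes.
-/

noncomputable section

set_option linter.style.haveILetI false
set_option linter.unusedSectionVars false
set_option backward.isDefEq.respectTransparency false
set_option backward.isDefEq.respectTransparency.types false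

universe u

open CategoryTheory CategoryTheory.Limits AlgebraicGeometry TopologicalSpace Opposite
open Groth.Agent.CurveCohLib.Polar (InR gη eta_mem)
open Groth.Agent.AModX (res resR)

namespace Groth.Agent.CurveFin75

open Groth.Agent.CurveFF

attribute [local instance] ffAlg

variable {X : Scheme.{u}} [IsIntegral X]
variable (k : Type u) [Field k] [X.Over (Spec (CommRingCat.of k))] [IsProper (X ↘ Spec (CommRingCat.of k))]
  [Smooth (X ↘ Spec (CommRingCat.of k))] (hdim : topologicalKrullDim X = 1)

include hdim in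
/-- `L(0)` is spanned by the constants. -/
theorem ell_zero (h0 : Module.finrank k (Coh.HH X (Coh.structureModule X) 0) = 1) :
    FunFld.ell (0 : FunFld.Divisor k X.functionField) = 1 := by
  have h := CurveFF.finrank_h0_eq_ell k hdim (CurveDeg.isInvertible_structureModule (X := X))
    (InvX.isFrame_one ⊤) (trivial : genericPoint X ∈ (⊤ : X.Opens))
  rw [divisor_structure, h0] at h
  exact h.symm

include hdim in
/-- The function field of a curve with constant global functions has exact constant field. -/
theorem isFunctionField (h0 : Module.finrank k (Coh.HH X (Coh.structureModule X) 0) = 1) :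
    FunFld.IsFunctionField k X.functionField := by
  refine ⟨exists_transcendental_finite k X hdim, fun y hy => ?_⟩
  have hmem : ∀ c : X.functionField, IsAlgebraic k c → c ∈ FunFld.L (0 : FunFld.Divisor k X.functionField) := by
    intro c hc P
    rw [Finsupp.zero_apply, WithZero.exp_zero]
    have hint : IsIntegral P.O c :=
      hc.isIntegral.map_of_comp_eq (algebraMap k P.O) (RingHom.id _) (by ext; rfl)
    obtain ⟨b, rfl⟩ := IsIntegrallyClosed.algebraMap_eq_of_integral hint
    exact b.2
  have h1 : Module.finrank k (FunFld.L (0 : FunFld.Divisor k X.functionField)) = 1 := ell_zero k hdim h0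
  let one : FunFld.L (0 : FunFld.Divisor k X.functionField) :=
    ⟨1, hmem 1 isAlgebraic_one⟩
  have hne : one ≠ 0 := fun h => one_ne_zero (congrArg Subtype.val h)
  obtain ⟨a, ha⟩ := exists_smul_eq_of_finrank_eq_one h1 hne ⟨y, hmem y hy⟩
  exact ⟨a, (Algebra.algebraMap_eq_smul_one a).trans (congrArg Subtype.val ha)⟩

section Pic

variable {M : X.Modules} (hM : PicF.IsInvertible M) {U₀ : X.Opens} {e₀ : Γ(M, U₀)}
  (he₀ : InvX.IsFrame e₀) (h₀ : genericPoint X ∈ U₀)

include hdim in
/-- A module with principal divisor is trivial. -/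
theorem nonempty_iso_of_principal {c : X.functionField} (hc : c ≠ 0)
    (h : divisor k hdim hM he₀ h₀ = FunFld.div k c) : Nonempty (M ≅ Coh.structureModule X) := by
  obtain ⟨U, hU, e, he, hr⟩ := exists_frame_ratio he₀ h₀ c⁻¹ (inv_ne_zero hc)
  have hD : divisor k hdim hM he hU = 0 := by
    have := divisor_change k hdim hM he₀ h₀ he hU
    rw [hr, FFLib.div_inv (isFF k hdim), sub_neg_eq_add, h] at this
    exact left_eq_add.1 (this.trans (add_comm _ _))
  -- regular sections with value one at the generic point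
  have hloc : ∀ y : X, ∃ (V : X.Opens) (_ : y ∈ V) (s : Γ(M, V)), InvX.IsFrame s ∧
      ∀ hV : genericPoint X ∈ V, gM hV s = gM hU e := by
    intro y
    obtain ⟨V, hy, f, hf⟩ := InvX.exists_frame hM y
    have hV := eta_mem hy
    let r : X.functionField := ratio hf hV hU e
    have hval : ∀ z : Pt X, z.1 ∈ V → (pl k X hdim z).1 r = 1 := fun z hz => by
      have h1 := exp_divisor k hdim hM he hU hf hV hz
      rw [hD, Finsupp.zero_apply, WithZero.exp_zero] at h1
      have h3 : (show X.functionField from ratio he hU hV f) * r = 1 := by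
        refine ((mul_comm _ _).trans (ratio_trans he hU hf hV hU e).symm).trans ?_
        exact ratio_eq he (one_smul _ _)
      have h4 := congrArg (pl k X hdim z).1 h3
      rw [map_mul, ← h1, one_mul, map_one] at h4
      exact h4
    have hall : ∀ z ∈ V, InR z r ∧ InR z r⁻¹ := fun z hz => by
      rcases eq_or_isClosed k X hdim z with rfl | hzc
      · exact ⟨⟨_, algebraMap_generic X _⟩, ⟨_, algebraMap_generic X _⟩⟩
      refine ⟨(inR_iff k X hdim ⟨z, hzc⟩ _).2 (hval ⟨z, hzc⟩ hz).le, (inR_iff k X hdim ⟨z, hzc⟩ _).2 ?_⟩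
      rw [map_inv₀, hval ⟨z, hzc⟩ hz, inv_one]
    obtain ⟨a, ha⟩ := CurveCohLib.Polar.exists_of_forall_inR fun z hz => (hall z hz).1
    obtain ⟨b, hb⟩ := CurveCohLib.Polar.exists_of_forall_inR fun z hz => (hall z hz).2
    have hr0 : r ≠ 0 := ratio_ne_zero hf hV he hU
    have hab : IsUnit a := IsUnit.of_mul_eq_one b (germ_injective_of_isIntegral (X := X) (genericPoint X) hV (by
      rw [map_mul, map_one]
      erw [ha hy, hb hy]
      exact mul_inv_cancel₀ hr0))
    refine ⟨V, hy, a • f, hf.isUnit_smul hab, fun hV' => ?_⟩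
    rw [gM_smul]
    erw [ha hy]
    exact ratio_spec hf hV hU e
  choose V hyV s hs hsv using hloc
  obtain ⟨T, hT, -⟩ := AModX.existsUnique_glue (M := M) (V := ⊤) V (fun _ => le_top)
    (fun p _ => ⟨p, hyV p⟩) s fun a b => by
      rcases Set.eq_empty_or_nonempty ((V a ⊓ V b : X.Opens) : Set X) with he' | ⟨p, hp⟩
      · exact AModX.eq_of_locally _ _ fun p hp => absurd
          (show p ∈ ((V a ⊓ V b : X.Opens) : Set X) from hp) (by rw [he']; exact Set.notMem_empty p)
      refine ext_gM hM (eta_mem hp) ?_
      rw [gM_res, gM_res]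
      exact (hsv a _).trans (hsv b _).symm
  exact InvUfdLib.nonempty_iso_of_frame (s := T)
    (InvUfdLib.isFrame_of_cover V (fun _ => le_top) (fun x _ => ⟨x, hyV x⟩) T fun x => by rw [hT x]; exact hs x)

include hdim in
/-- Modules whose divisors differ by a principal one are isomorphic. -/
theorem nonempty_iso_of_sub_eq_div {N : X.Modules} (hN : PicF.IsInvertible N) {V₀ : X.Opens} {f₀ : Γ(N, V₀)}
    (hf₀ : InvX.IsFrame f₀) (hv : genericPoint X ∈ V₀) {c : X.functionField}
    (h : divisor k hdim hM he₀ h₀ - divisor k hdim hN hf₀ hv = FunFld.div k c) : Nonempty (M ≅ N) := by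
  obtain ⟨D, hD, W, g, hg, hW, hdiv, -⟩ :=
    isDivisorOfModule_all k hdim (-divisor k hdim hN hf₀ hv)
  have htriv : ∀ {P : X.Modules} (hP : PicF.IsInvertible P) {W₀ : X.Opens} {p : Γ(P, W₀)} (hp : InvX.IsFrame p)
      (hw : genericPoint X ∈ W₀) (c : X.functionField),
      divisor k hdim hP hp hw - divisor k hdim hN hf₀ hv = FunFld.div k c →
        Nonempty ((DCoh.tensorBi.obj P).obj D ≅ Coh.structureModule X) := by
    intro P hP W₀ p hp hw c hc
    have hWW : genericPoint X ∈ W₀ ⊓ W := ⟨hw, hW⟩
    have hne : ∃ c' : X.functionField, c' ≠ 0 ∧ FunFld.div k c' = FunFld.div k c := by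
      rcases eq_or_ne c 0 with rfl | h0
      · refine ⟨1, one_ne_zero, ?_⟩
        ext P'
        simp [FFLib.div_apply (isFF k hdim), FunFld.Place.ord]
      · exact ⟨c, h0, rfl⟩
    obtain ⟨c', hc', hcc⟩ := hne
    refine nonempty_iso_of_principal k hdim (InvX.isInvertible_tensorMod hP hD)
      (InvX.isFrame_tmul (hp.res (inf_le_left : W₀ ⊓ W ≤ W₀)) (hg.res (inf_le_right : W₀ ⊓ W ≤ W))) hWW hc' ?_
    rw [divisor_tensor k hdim hP (hp.res inf_le_left) hWW hD (hg.res inf_le_right),
      divisor_restrict k hdim hP hp hw, divisor_restrict k hdim hD hg hW, hdiv, hcc, ← hc, sub_eq_add_neg]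
  obtain ⟨a⟩ := htriv hM he₀ h₀ c h
  obtain ⟨b⟩ := htriv hN hf₀ hv 1 (by
    ext P'
    simp [FFLib.div_apply (isFF k hdim), FunFld.Place.ord])
  -- `M ≅ M ⊗ (D ⊗ N) ≅ (M ⊗ D) ⊗ N ≅ N`
  let b' : (DCoh.tensorBi.obj D).obj N ≅ Coh.structureModule X := CurveTensor.commIso D N ≪≫ b
  exact ⟨((CurveRR.tensorStructureIso' X).app M).symm ≪≫ CurveTensor.commIso _ _ ≪≫
    (DCoh.tensorBi.obj M).mapIso b'.symm ≪≫ (((KFlatLib.tensorAssocSch X).app M).app D).symm.app N ≪≫
    (DCoh.tensorBi.mapIso a).app N ≪≫ (CurveRR.tensorStructureIso' X).app N⟩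

include hdim in
/-- The degree of a module is the degree of its divisor. -/
theorem deg_divisor : (divisor k hdim hM he₀ h₀).deg = Curv2.deg k X M 1 := by
  obtain ⟨N, hN, V, f, hf, hV, hdiv, hdeg⟩ := isDivisorOfModule_all k hdim (divisor k hdim hM he₀ h₀)
  obtain ⟨e⟩ := nonempty_iso_of_sub_eq_div k hdim hM he₀ h₀ hN hf hV (c := 1) (by
    rw [hdiv, sub_self]
    ext P'
    simp [FFLib.div_apply (isFF k hdim), FunFld.Place.ord])
  rw [hdeg, CurveRR.deg_congr k e 1]

end Pic

section Genus

attribute [local instance] CurveBC.overBar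

local notation "K̄" => AlgebraicClosure k

include hdim in
/-- No first cohomology in degree above `2g - 2`, over any field. -/
theorem subsingleton_h1 (h0 : Module.finrank k (Coh.HH X (Coh.structureModule X) 0) = 1) {L : X.Modules}
    (hL : PicF.IsInvertible L) (hd : 2 * (Curv2.genus k X : ℤ) - 2 < Curv2.deg k X L 1) :
    Module.finrank k (Coh.HH X L 1) = 0 := by
  obtain ⟨_, _, _, hd', _, _⟩ := CurveBC.bar_facts k X hdim h0
  haveI := quasiSeparatedSpace_of_quasiSeparated (X ↘ Spec (CommRingCat.of k))
  haveI := QuasiCompact.compactSpace_of_compactSpace (X ↘ Spec (CommRingCat.of k))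
  have hpb := CurveBC.isPullback_bar k X
  have hq := ProjUPX.isQCoh_of_isInvertible hL
  haveI := CurveFF.subsingleton_h1 K̄ hd' (PicClLib.isInvertible_pullback (Curv2.bcFst k X K̄) hL) (by
    rw [CurveBC.deg_eq k K̄ _ hpb L hq, CurveBC.genus_eq k K̄ _ hpb]
    exact hd)
  rw [← CurveBC.finrank_hh k K̄ _ hpb L hq, Module.finrank_zero_of_subsingleton]

include hdim in
/-- The genus of the curve is the genus of its function field. -/
theorem genus_eq (h0 : Module.finrank k (Coh.HH X (Coh.structureModule X) 0) = 1) :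
    FunFld.genus k X.functionField = Curv2.genus k X := by
  obtain ⟨P⟩ := FFLib.exists_place (isFF k hdim)
  obtain ⟨x, rfl⟩ := (pl k X hdim).surjective P
  haveI := CurveCohLib.isNoetherian_of_proper (k := k) (X := X)
  have hK := isFunctionField k hdim h0
  have hpos : 0 < (pl k X hdim x).deg := FFLib.deg_pos hK.1 _
  let n : ℕ := 2 * Curv2.genus k X + 2 * FunFld.genus k X.functionField + 1
  obtain ⟨L, hL, U, e, he, hU, hdiv, hdeg⟩ :=
    isDivisorOfModule_all k hdim (Finsupp.single (pl k X hdim x) (n : ℤ))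
  rw [FFLib.Divisor.deg_single] at hdeg
  have hbig : (n : ℤ) ≤ n * (pl k X hdim x).deg := le_mul_of_one_le_right (by positivity) (by exact_mod_cast hpos)
  have h1 := subsingleton_h1 k hdim h0 hL (by rw [← hdeg]; omega)
  have h2 := CurveRR.euler_eq_h0_sub_h1 k hdim.le (CurveDeg.isCoh_of_isInvertible hL).1
  have h3 := CurveRR.euler_eq_h0_sub_h1 k hdim.le (QCoh.isQCoh_structureModule (X := X))
  rw [h0] at h3
  have h4 : Curv2.deg k X L 1 = Curv2.euler k X L - Curv2.euler k X (Coh.structureModule X) := by
    unfold Curv2.deg; push_cast; ring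
  have h5 := CurveFF.finrank_h0_eq_ell k hdim hL he hU
  have h6 := FFLib.ell_of_deg_gt hK (D := Finsupp.single (pl k X hdim x) (n : ℤ))
    (by rw [FFLib.Divisor.deg_single]; omega)
  rw [hdiv] at h5
  rw [FFLib.Divisor.deg_single] at h6
  unfold Curv2.genus at *
  omega

end Genus

end Groth.Agent.CurveFin75
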