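import Groth.Agent.CurveFin75.Zeta

/-! Consequences for geometrically irreducible curves and for function fields over finite fields. -/

noncomputable section

set_option linter.style.haveILetI false
set_option linter.unusedSectionVars false

universe u

open CategoryTheory CategoryTheory.Limits AlgebraicGeometry

namespace Groth.Agent.CurveFin75

theorem finrank_h0_of_geometricallyIrreducible (k : Type u) [Field k] (X : Scheme.{u})
    [X.Over (Spec (CommRingCat.of k))] [IsProper (X ↘ Spec (CommRingCat.of k))]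
    [Smooth (X ↘ Spec (CommRingCat.of k))] [h : GeometricallyIrreducible (X ↘ Spec (CommRingCat.of k))] :
    Module.finrank k (Coh.HH X (Coh.structureModule X) 0) = 1 := by
  haveI : GeometricallyConnected (X ↘ Spec (CommRingCat.of k)) := by
    refine ⟨geometrically_iff_of_commRing_of_isClosedUnderIsomorphisms.mpr fun K _ _ => ?_⟩
    haveI := GeomField.irreducibleSpace_bc (k := k) (X := X) K
    exact IrreducibleSpace.connectedSpace _
  exact CurveBC.finrank_h0_of_geometricallyConnected k X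

variable {k K : Type*} [Field k] [Finite k] [Field K] [Algebra k K]

theorem norm_and_pairing (hK : FunFld.IsFunctionField k K) (α : Fin (2 * FunFld.genus k K) → ℂ)
    (hα : PowerSeries.map (Int.castRingHom ℂ) (FunFld.numerZ k K) =
      ((∏ i, (1 - Polynomial.C (α i) * Polynomial.X) : Polynomial ℂ) : PowerSeries ℂ))
    (hpair : ∀ i, α i * α (Fin.rev i) = (Nat.card k : ℂ)) :
    (∀ i, ‖α i‖ ^ 2 = (Nat.card k : ℝ)) ∧ ∀ i, α (Fin.revPerm i) * α i = (Nat.card k : ℂ) := by
  refine ⟨fun i => ?_, fun i => (mul_comm _ _).trans (hpair i)⟩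
  obtain ⟨β, hβ, hn⟩ := FFLib.norm_sq_root hK
  have hP : (∏ i, (1 - Polynomial.C (α i) * Polynomial.X) : Polynomial ℂ) =
      ∏ i, (1 - Polynomial.C (β i) * Polynomial.X) := Polynomial.coe_injective ℂ (hα.symm.trans hβ)
  have hq : (Nat.card k : ℂ) ≠ 0 := by exact_mod_cast Nat.card_pos.ne'
  have h0 : α i ≠ 0 := fun h => hq (by rw [← hpair i, h, zero_mul])
  have h := congrArg (Polynomial.eval (α i)⁻¹) hP
  simp only [Polynomial.eval_prod, Polynomial.eval_sub, Polynomial.eval_one, Polynomial.eval_mul,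
    Polynomial.eval_C, Polynomial.eval_X] at h
  rw [Finset.prod_eq_zero (Finset.mem_univ i) (by rw [mul_inv_cancel₀ h0, sub_self])] at h
  obtain ⟨j, -, hj⟩ := Finset.prod_eq_zero_iff.1 h.symm
  rw [sub_eq_zero, eq_comm, mul_inv_eq_one₀ h0] at hj
  rw [← hj, hn j]

theorem abs_placeCount_sub_le (hK : FunFld.IsFunctionField k K) {n : ℕ} (hn : 0 < n) :
    |(FFLib.placeCount k K n : ℝ) - ((Nat.card k : ℝ) ^ n + 1)| ≤
      2 * FunFld.genus k K * (Nat.card k : ℝ) ^ ((n : ℝ) / 2) := by
  obtain ⟨α, hα, hnorm⟩ := FFLib.norm_sq_root hK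
  have h := FFLib.placeCount_eq hK.1 α hα hn
  have hα' : ∀ i, ‖α i ^ n‖ = (Nat.card k : ℝ) ^ ((n : ℝ) / 2) := fun i => by
    rw [norm_pow, ← Real.sqrt_sq (norm_nonneg (α i)), hnorm i, Real.sqrt_eq_rpow, ← Real.rpow_natCast,
      ← Real.rpow_mul (Nat.cast_nonneg _)]
    congr 1
    ring
  rw [← Real.norm_eq_abs, ← Complex.norm_real]
  push_cast
  rw [h, show (1 : ℂ) + (Nat.card k : ℂ) ^ n - ∑ i, α i ^ n - ((Nat.card k : ℂ) ^ n + 1) =
    -∑ i, α i ^ n by ring, norm_neg]
  refine (norm_sum_le _ _).trans (le_of_eq ?_)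
  rw [Finset.sum_congr rfl fun i _ => hα' i, Finset.sum_const, Finset.card_univ, Fintype.card_fin, nsmul_eq_mul]
  push_cast
  ring

theorem exists_numer_polynomial (hK : FunFld.IsFunctionField k K) :
    ∃ P : Polynomial ℤ, (P : PowerSeries ℤ) = FunFld.numerZ k K ∧ P.natDegree ≤ 2 * FunFld.genus k K ∧
      P.coeff 0 = 1 := by
  obtain ⟨D, hD⟩ := FFLib.exists_deg_one hK
  haveI := FFLib.finite_pic0 (k := k) hK.1
  haveI := Fintype.ofFinite (FFLib.Pic0 k K)
  refine ⟨PowerSeries.trunc (2 * FunFld.genus k K + 1) (FunFld.numerZ k K), ?_,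
    Nat.lt_succ_iff.1 (PowerSeries.natDegree_trunc_lt _ _), ?_⟩
  · ext n
    rw [Polynomial.coeff_coe, PowerSeries.coeff_trunc]
    split_ifs with h
    · rfl
    · exact (FFLib.numerZ_vanish hK hD n (by omega)).symm
  · rw [PowerSeries.coeff_trunc, if_pos (Nat.succ_pos _)]
    exact FFLib.constantCoeff_numerZ hK.1

end Groth.Agent.CurveFin75
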