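import Groth.Agent.CurveFF.Divisor
import Groth.Agent.CurveEmbed.Points
import Groth.Agent.FFLib.ZetaCount
import Groth.Agent.InvUfdLib.Trivial
import Groth.Agent.H23.PicInv

/-!
Divisors of invertible modules on a smooth proper curve over an arbitrary field: change of frame,
the divisor of the ideal of a closed point, every divisor comes from an invertible module.
-/

noncomputable section

set_option linter.style.haveILetI false
set_option linter.unusedSectionVars false
set_option backward.isDefEq.respectTransparency false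
set_option backward.isDefEq.respectTransparency.types false

universe u

open CategoryTheory CategoryTheory.Limits AlgebraicGeometry TopologicalSpace Opposite
open Groth.Agent.CurveCohLib.Polar (InR gη eta_mem)
open Groth.Agent.AModX (res resR)

namespace Groth.Agent.CurveFin75

open Groth.Agent.CurveFF

attribute [local instance] ffAlg

variable {X : Scheme.{u}} [IsIntegral X]

/-- The unit section of the structure module. -/
abbrev oneO (U : X.Opens) : Γ(Coh.structureModule X, U) := (1 : Γ(X, U))

/-- The germ of the unit section. -/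
def oo (y : X) : (Coh.structureModule X).presheaf.stalk y :=
  (Coh.structureModule X).presheaf.germ ⊤ y trivial (oneO ⊤)

theorem germ_oneO {U : X.Opens} {y : X} (hy : y ∈ U) :
    (Coh.structureModule X).presheaf.germ U y hy (oneO U) = oo y := by
  have h : res (Coh.structureModule X) (le_top : U ≤ ⊤) (oneO ⊤) = oneO U :=
    (X.presheaf.map (homOfLE (le_top : U ≤ ⊤)).op).hom.map_one
  rw [← h]
  exact InvX.germ_res' le_top hy (oneO ⊤)

theorem germ_structure {U : X.Opens} {y : X} (hy : y ∈ U) (r : Γ(X, U)) :
    (Coh.structureModule X).presheaf.germ U y hy r = X.presheaf.germ U y hy r • oo y := by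
  rw [← germ_oneO hy]
  refine Eq.trans ?_ (QCoh.germ_smul' (M := Coh.structureModule X) hy r (oneO U))
  exact congrArg _ (mul_one r).symm

theorem oo_bijective (y : X) : Function.Bijective fun c : X.presheaf.stalk y => c • oo y :=
  (InvX.isFrame_one (X := X) ⊤).germ_bijective (trivial : y ∈ (⊤ : X.Opens))

theorem ratio_oneO {U V : X.Opens} (hU : genericPoint X ∈ U) (hV : genericPoint X ∈ V) (r : Γ(X, V)) :
    ratio (InvX.isFrame_one U) hU hV (M := Coh.structureModule X) r =
      X.presheaf.germ V (genericPoint X) hV r := by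
  refine ratio_eq _ ?_
  unfold gM
  erw [germ_structure hV r]
  congr 1
  exact germ_oneO hU

/-- A frame with a prescribed coordinate. -/
theorem exists_frame_ratio {M : X.Modules} {U₀ : X.Opens} {e₀ : Γ(M, U₀)} (he₀ : InvX.IsFrame e₀)
    (h₀ : genericPoint X ∈ U₀) (c : X.functionField) (hc : c ≠ 0) :
    ∃ (U₁ : X.Opens) (h₁ : genericPoint X ∈ U₁) (e₁ : Γ(M, U₁)), InvX.IsFrame e₁ ∧
      ratio he₀ h₀ h₁ e₁ = c := by
  obtain ⟨W, -, r, hW, hr, hu⟩ := exists_isUnit_germ_eq X c hc
  obtain ⟨w⟩ := hW
  have hη : genericPoint X ∈ W := eta_mem w.2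
  refine ⟨W ⊓ U₀, ⟨hη, h₀⟩, resR inf_le_left r • res M inf_le_right e₀,
    (he₀.res inf_le_right).isUnit_smul (hu.map _), ratio_eq he₀ ?_⟩
  rw [gM_smul, gM_res inf_le_right ⟨hη, h₀⟩]
  congr 1
  refine Eq.trans ?_ (InvX.germ_resR' (inf_le_left : W ⊓ U₀ ≤ W) (x := genericPoint X) ⟨hη, h₀⟩ r).symm
  exact hr.symm

variable (k : Type u) [Field k] [X.Over (Spec (CommRingCat.of k))] [IsProper (X ↘ Spec (CommRingCat.of k))]
  [Smooth (X ↘ Spec (CommRingCat.of k))] (hdim : topologicalKrullDim X = 1)

include hdim in
theorem isFF : FFLib.IsFF k X.functionField := exists_transcendental_finite k X hdim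

section Change

variable {M : X.Modules} (hM : PicF.IsInvertible M) {U₀ : X.Opens} {e₀ : Γ(M, U₀)}
  (he₀ : InvX.IsFrame e₀) (h₀ : genericPoint X ∈ U₀)

/-- Change of the rational frame changes the divisor by a principal one. -/
theorem divisor_change {U₁ : X.Opens} {e₁ : Γ(M, U₁)} (he₁ : InvX.IsFrame e₁)
    (h₁ : genericPoint X ∈ U₁) :
    divisor k hdim hM he₀ h₀ =
      divisor k hdim hM he₁ h₁ - FunFld.div k (show X.functionField from ratio he₀ h₀ h₁ e₁) := by
  ext P
  obtain ⟨z, rfl⟩ := (pl k X hdim).surjective P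
  have hU := eta_mem (mem_chartU hM z)
  refine WithZero.exp_injective ?_
  rw [Finsupp.sub_apply, FFLib.div_apply (isFF k hdim), sub_eq_add_neg, WithZero.exp_add,
    exp_divisor k hdim hM he₀ h₀ (isFrame_chartE hM z) hU (mem_chartU hM z),
    exp_divisor k hdim hM he₁ h₁ (isFrame_chartE hM z) hU (mem_chartU hM z),
    ← FFLib.val_eq_exp _ (x := (show X.functionField from ratio he₀ h₀ h₁ e₁))
      (ratio_ne_zero he₀ h₀ he₁ h₁), ← map_mul]
  congr 1
  exact ratio_trans he₀ h₀ he₁ h₁ hU _

theorem divisor_structure :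
    divisor k hdim (CurveDeg.isInvertible_structureModule (X := X)) (InvX.isFrame_one ⊤)
      (trivial : genericPoint X ∈ (⊤ : X.Opens)) = 0 := by
  ext P
  obtain ⟨z, rfl⟩ := (pl k X hdim).surjective P
  show ordFun k hdim _ _ _ ((pl k X hdim).symm (pl k X hdim z)) = 0
  exact ordFun_eq_zero k hdim _ _ _ trivial

end Change

attribute [local instance] Curv2.resAlgebra

/-- The degree of the place of a closed point is the residue degree. -/
theorem deg_pl (z : Pt X) : (pl k X hdim z).deg = Module.finrank k (X.residueField z.1) := by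
  let P := pl k X hdim z
  let φ : X.presheaf.stalk z.1 →+* P.O :=
    (algebraMap (X.presheaf.stalk z.1) X.functionField).codRestrict _
      fun a => (valAt_le_one_iff k X hdim z _).2 ⟨a, rfl⟩
  have hsurj : Function.Surjective φ := fun y => by
    obtain ⟨a, ha⟩ := (valAt_le_one_iff k X hdim z y.1).1 y.2
    exact ⟨a, Subtype.ext ha⟩
  haveI : IsLocalHom φ := Function.Surjective.isLocalHom φ hsurj
  let r : IsLocalRing.ResidueField (X.presheaf.stalk z.1) →+* IsLocalRing.ResidueField P.O :=
    IsLocalRing.ResidueField.map φ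
  have hr : Function.Bijective r := ⟨r.injective, fun y => by
    obtain ⟨b, rfl⟩ := IsLocalRing.residue_surjective y
    obtain ⟨a, rfl⟩ := hsurj b
    exact ⟨IsLocalRing.residue _ a, rfl⟩⟩
  let e : X.residueField z.1 ≃ₐ[k] IsLocalRing.ResidueField P.O :=
    AlgEquiv.ofRingEquiv (f := RingEquiv.ofBijective r hr) fun c => by
      show IsLocalRing.residue P.O (φ (Curv2.stalkMap k X z.1 c)) = _
      exact congrArg (IsLocalRing.residue P.O) (Subtype.ext (algebraMap_eq k X z.1 c).symm)
  exact e.toLinearEquiv.finrank_eq.symm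

/-- The divisors of invertible modules, of the degree of the module. -/
def IsDivisorOfModule (D : FunFld.Divisor k X.functionField) : Prop :=
  ∃ (M : X.Modules) (hM : PicF.IsInvertible M) (U₀ : X.Opens) (e₀ : Γ(M, U₀))
    (he₀ : InvX.IsFrame e₀) (h₀ : genericPoint X ∈ U₀), divisor k hdim hM he₀ h₀ = D ∧
      D.deg = Curv2.deg k X M 1

theorem isDivisorOfModule_zero : IsDivisorOfModule k hdim (0 : FunFld.Divisor k X.functionField) :=
  ⟨_, CurveDeg.isInvertible_structureModule, ⊤, _, InvX.isFrame_one ⊤, trivial,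
    divisor_structure k hdim, by rw [FFLib.Divisor.deg_zero, CurveDeg.deg_structureModule]⟩

theorem divisor_restrict {M : X.Modules} (hM : PicF.IsInvertible M) {U₀ : X.Opens} {e₀ : Γ(M, U₀)}
    (he₀ : InvX.IsFrame e₀) (h₀ : genericPoint X ∈ U₀) {U₁ : X.Opens} (h : U₁ ≤ U₀)
    (h₁ : genericPoint X ∈ U₁) :
    divisor k hdim hM (he₀.res h) h₁ = divisor k hdim hM he₀ h₀ := by
  rw [divisor_change k hdim hM (he₀.res h) h₁ he₀ h₀]
  have : ratio (he₀.res h) h₁ h₀ e₀ = 1 := ratio_eq _ (by rw [one_smul, gM_res])
  rw [this, sub_eq_self]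
  ext P
  rw [FFLib.div_apply (isFF k hdim)]
  simp only [FunFld.Place.ord, map_one, Finsupp.zero_apply, neg_eq_zero]
  exact WithZero.log_one

theorem IsDivisorOfModule.add {D E : FunFld.Divisor k X.functionField}
    (hD : IsDivisorOfModule k hdim D) (hE : IsDivisorOfModule k hdim E) :
    IsDivisorOfModule k hdim (D + E) := by
  obtain ⟨M, hM, U, e, he, hU, rfl, hdM⟩ := hD
  obtain ⟨N, hN, V, f, hf, hV, rfl, hdN⟩ := hE
  have hW : genericPoint X ∈ U ⊓ V := ⟨hU, hV⟩
  refine ⟨_, InvX.isInvertible_tensorMod hM hN, U ⊓ V, _,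
    InvX.isFrame_tmul (he.res inf_le_left) (hf.res inf_le_right), hW, ?_, ?_⟩
  swap
  · rw [FFLib.Divisor.deg_add, hdM, hdN]
    exact (CurveRR.deg_tensor k hdim hM hN).symm
  rw [divisor_tensor k hdim hM (he.res inf_le_left) hW hN (hf.res inf_le_right),
    divisor_restrict k hdim hM he hU, divisor_restrict k hdim hN hf hV]

theorem IsDivisorOfModule.add_div {D : FunFld.Divisor k X.functionField}
    (hD : IsDivisorOfModule k hdim D) (c : X.functionField) :
    IsDivisorOfModule k hdim (D + FunFld.div k c) := by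
  obtain ⟨M, hM, U, e, he, hU, rfl, hdM⟩ := hD
  rcases eq_or_ne c 0 with rfl | hc
  · have h0 : FunFld.div k (0 : X.functionField) = 0 := by
      ext P
      rw [FFLib.div_apply (isFF k hdim)]
      simp [FunFld.Place.ord]
    exact ⟨M, hM, U, e, he, hU, by rw [h0, add_zero], by rw [h0, add_zero, hdM]⟩
  obtain ⟨U₁, h₁, e₁, he₁, hr⟩ := exists_frame_ratio he hU c hc
  refine ⟨M, hM, U₁, e₁, he₁, h₁, ?_, by rw [FFLib.Divisor.deg_add, FFLib.deg_div (isFF k hdim), add_zero, hdM]⟩
  rw [divisor_change k hdim hM he hU he₁ h₁, hr]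
  exact (sub_add_cancel _ _).symm

theorem IsDivisorOfModule.neg {D : FunFld.Divisor k X.functionField}
    (hD : IsDivisorOfModule k hdim D) : IsDivisorOfModule k hdim (-D) := by
  obtain ⟨M, hM, U, e, he, hU, rfl, hdM⟩ := hD
  obtain ⟨N, hN, ⟨φ⟩⟩ := H23.PicInv.exists_inverse hM
  obtain ⟨V, hV, f, hf⟩ := InvX.exists_frame hN (genericPoint X)
  have hW : genericPoint X ∈ U ⊓ V := ⟨hU, hV⟩
  have htm := InvX.isFrame_tmul (he.res (inf_le_left : U ⊓ V ≤ U)) (hf.res (inf_le_right : U ⊓ V ≤ V))
  have h1 := divisor_iso k hdim (InvX.isInvertible_tensorMod hM hN) htm hW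
    CurveDeg.isInvertible_structureModule φ
  rw [divisor_tensor k hdim hM (he.res inf_le_left) hW hN (hf.res inf_le_right),
    divisor_restrict k hdim hM he hU, divisor_restrict k hdim hN hf hV,
    divisor_change k hdim _ _ hW (InvX.isFrame_one ⊤) trivial, divisor_structure, zero_sub] at h1
  obtain ⟨c, hc⟩ : ∃ c : X.functionField, -FunFld.div k c = divisor k hdim hM he hU + divisor k hdim hN hf hV :=
    ⟨_, h1⟩
  have hdeg : (divisor k hdim hN hf hV).deg = Curv2.deg k X N 1 := by
    have e1 := congrArg FunFld.Divisor.deg hc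
    rw [FFLib.Divisor.deg_neg, FFLib.deg_div (isFF k hdim), FFLib.Divisor.deg_add, hdM] at e1
    have e2 := CurveRR.deg_tensor k hdim hM hN
    rw [CurveRR.deg_congr k (show (DCoh.tensorBi.obj M).obj N ≅ Coh.structureModule X from φ),
      CurveDeg.deg_structureModule] at e2
    omega
  have hN' : IsDivisorOfModule k hdim (divisor k hdim hN hf hV) := ⟨N, hN, V, f, hf, hV, rfl, hdeg⟩
  have h2 := hN'.add_div k hdim c
  have h3 : -divisor k hdim hM he hU = divisor k hdim hN hf hV + FunFld.div k c := by
    linear_combination (norm := module) (1 : ℤ) • hc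
  rwa [h3]

/-- The valuations of the ideal of a closed point. -/
theorem isDivisorOfModule_point (x : Pt X) :
    IsDivisorOfModule k hdim (-Finsupp.single (pl k X hdim x) (1 : ℤ)) := by
  classical
  haveI := CurveCohLib.isNoetherian_of_proper (k := k) (X := X)
  let I := CurvePoint.ptIdeal x.1 x.2
  let N := CurvePoint.ptMod x.1 x.2
  have hxn : IsIntegrallyClosed (X.presheaf.stalk x.1) := by
    haveI := isDVR k X hdim x.2
    infer_instance
  have hN : PicF.IsInvertible N := CurveEmbed.isInvertible_point k hdim x.2 hxn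
  have hS := CurvePoint.shortExact_pt x.1 x.2
  let φ : N ⟶ Coh.structureModule X := ClSub.idealModι I
  obtain ⟨U₀, h₀, e₀, he₀⟩ := InvX.exists_frame hN (genericPoint X)
  have h1η : genericPoint X ∈ (⊤ : X.Opens) := trivial
  -- coordinates of the inclusion
  let F : ∀ (y : X), N.presheaf.stalk y →ₗ[X.presheaf.stalk y] (Coh.structureModule X).presheaf.stalk y :=
    fun y => ((DerSch.stalkFunctor X y).map φ).hom
  have hFgerm : ∀ (y : X) (U : X.Opens) (hy : y ∈ U) (s : Γ(N, U)),
      F y (N.presheaf.germ U y hy s) = (Coh.structureModule X).presheaf.germ U y hy (φ.app U s) :=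
    fun y U hy s => TopCat.Presheaf.stalkFunctor_map_germ_apply U y hy
      ((Scheme.Modules.toPresheaf X).map φ) s
  have hinj : Function.Injective (F (genericPoint X)) :=
    (ModuleCat.mono_iff_injective _).1 (hS.map_of_exact (DerSch.stalkFunctor X _)).mono_f
  let c : X.functionField :=
    show X.presheaf.stalk (genericPoint X) from X.presheaf.germ U₀ (genericPoint X) h₀ (φ.app U₀ e₀)
  have hcoord : ∀ (U : X.Opens) (hU : genericPoint X ∈ U) (s : Γ(N, U)),
      ((X.presheaf.germ U (genericPoint X) hU (φ.app U s) : X.presheaf.stalk (genericPoint X)) : X.functionField) =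
        (show X.functionField from ratio he₀ h₀ hU s) * c := by
    intro U hU s
    have h := congrArg (F (genericPoint X)) (ratio_spec he₀ h₀ hU s)
    rw [map_smul] at h
    unfold gM at h
    erw [hFgerm, hFgerm] at h
    rw [germ_structure, germ_structure, smul_smul] at h
    exact ((oo_bijective _).1 h).symm
  have hc : c ≠ 0 := by
    intro h0
    have h2 : F (genericPoint X) (gM h₀ e₀) = F (genericPoint X) 0 := by
      rw [map_zero]
      unfold gM
      erw [hFgerm, germ_structure]
      have h0' : X.presheaf.germ U₀ (genericPoint X) h₀ (φ.app U₀ e₀) = 0 := h0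
      rw [h0', zero_smul]
    have h3 := (he₀.germ_bijective h₀).1 (a₁ := (1 : X.presheaf.stalk (genericPoint X))) (a₂ := 0) (by
      have := hinj h2
      show (1 : X.presheaf.stalk (genericPoint X)) • gM h₀ e₀ = (0 : X.presheaf.stalk (genericPoint X)) • gM h₀ e₀
      rw [this, smul_zero, smul_zero])
    exact one_ne_zero h3
  have key : divisor k hdim hN he₀ h₀ + -FunFld.div k c = -Finsupp.single (pl k X hdim x) (1 : ℤ) := by
    ext P
    obtain ⟨z, rfl⟩ := (pl k X hdim).surjective P
    have hz := mem_chartU hN z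
    have hU := eta_mem hz
    let s := chartE hN z
    let a : X.presheaf.stalk z.1 := X.presheaf.germ (chartU hN z) z.1 hz (φ.app (chartU hN z) s)
    have ha : algebraMap (X.presheaf.stalk z.1) X.functionField a =
        (show X.functionField from ratio he₀ h₀ hU s) * c := by
      rw [← hcoord (chartU hN z) hU s]
      exact TopCat.Presheaf.germ_stalkSpecializes_apply (F := X.presheaf)
        (hy := hz) ((genericPoint_spec X).specializes (Set.mem_univ z.1)) _
    have hval : (pl k X hdim z).1 (algebraMap (X.presheaf.stalk z.1) X.functionField a) =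
        WithZero.exp ((divisor k hdim hN he₀ h₀ + -FunFld.div k c) (pl k X hdim z)) := by
      rw [ha, map_mul, Finsupp.add_apply, WithZero.exp_add,
        exp_divisor k hdim hN he₀ h₀ (isFrame_chartE hN z) hU hz, Finsupp.neg_apply,
        FFLib.div_apply (isFF k hdim), ← FFLib.val_eq_exp _ hc]
    have hex := fun q : (Coh.structureModule X).presheaf.stalk z.1 =>
      (ShortComplex.moduleCat_exact_iff _).1 (hS.map_of_exact (DerSch.stalkFunctor X z.1)).exact q
    -- every element of the image is a multiple of `a`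
    have himg : ∀ n, ∃ b : X.presheaf.stalk z.1, F z.1 n = (b * a) • oo z.1 := fun n => by
      obtain ⟨b, rfl⟩ := ((isFrame_chartE hN z).germ_bijective hz).2 n
      refine ⟨b, ?_⟩
      show F z.1 (b • _) = _
      rw [map_smul, hFgerm, germ_structure, smul_smul]
    refine WithZero.exp_injective ?_
    rw [← hval, Finsupp.neg_apply]
    by_cases hzx : z = x
    · subst hzx
      rw [Finsupp.single_eq_same]
      let π := ((DerSch.stalkFunctor X z.1).map (ClSub.toSubscheme I)).hom
      haveI : Epi (ClSub.toSubscheme I) := CurvePoint.epi_toSubscheme I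
      have hπ : Function.Surjective π :=
        (ModuleCat.epi_iff_surjective ((DerSch.stalkFunctor X z.1).map (ClSub.toSubscheme I))).1 inferInstance
      have hm : a ∈ IsLocalRing.maximalIdeal (X.presheaf.stalk z.1) := by
        by_contra hu
        have hu' : IsUnit a := not_not.1 fun h => hu ((IsLocalRing.mem_maximalIdeal _).2 h)
        refine CurvePoint.not_subsingleton_stalk z.1 z.2 (subsingleton_of_forall_eq 0 fun q => ?_)
        obtain ⟨r, rfl⟩ := hπ q
        obtain ⟨r₀, rfl⟩ := (oo_bijective z.1).2 r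
        have hr : r₀ • oo z.1 = F z.1 ((r₀ * ↑hu'.unit⁻¹) •
            N.presheaf.germ (chartU hN z) z.1 hz s) := by
          rw [map_smul, hFgerm, germ_structure, smul_smul, mul_assoc, IsUnit.val_inv_mul, mul_one]
        show π (r₀ • oo z.1) = 0
        rw [hr]
        exact ConcreteCategory.congr_hom ((Functor.map_comp (DerSch.stalkFunctor X z.1) φ (ClSub.toSubscheme I)).symm.trans
          ((congrArg (DerSch.stalkFunctor X z.1).map (kernel.condition _)).trans (Functor.map_zero _ _ _))) _
      have h1 := (valAt_lt_one_iff k X hdim z a).2 hm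
      obtain ⟨t, -, ht⟩ := FFLib.exists_unif (pl k X hdim z)
      obtain ⟨u, hu⟩ := (valAt_le_one_iff k X hdim z t).1
        (show (pl k X hdim z).1 t ≤ 1 by rw [ht, ← WithZero.exp_zero, WithZero.exp_le_exp]; omega)
      have hum : u ∈ IsLocalRing.maximalIdeal (X.presheaf.stalk z.1) :=
        (valAt_lt_one_iff k X hdim z u).1 (by
          show (pl k X hdim z).1 _ < 1
          rw [hu, ht, ← WithZero.exp_zero, WithZero.exp_lt_exp]; omega)
      obtain ⟨w, hw⟩ := hex (u • oo z.1) ((map_smul π _ _).trans
        (CurvePoint.smul_quot_eq_zero z.1 z.2 hum _))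
      obtain ⟨b, hb⟩ := himg w
      have hub : u = b * a := (oo_bijective z.1).1 (hw.symm.trans hb)
      have h2 : WithZero.exp (-1 : ℤ) ≤ (pl k X hdim z).1 (algebraMap (X.presheaf.stalk z.1) X.functionField a) := by
        rw [← ht, ← hu, hub, map_mul, map_mul]
        exact mul_le_of_le_one_left' ((valAt_le_one_iff k X hdim z _).2 ⟨b, rfl⟩)
      refine le_antisymm ?_ h2
      rw [hval, WithZero.exp_le_exp]
      change (pl k X hdim z).1 _ < 1 at h1
      rw [hval, ← WithZero.exp_zero, WithZero.exp_lt_exp] at h1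
      omega
    · rw [Finsupp.single_eq_of_ne ((pl k X hdim).injective.ne hzx), neg_zero, WithZero.exp_zero]
      haveI := CurvePoint.subsingleton_stalk_of_ne x.1 x.2 fun h => hzx (Subtype.ext h)
      obtain ⟨w, hw⟩ := hex (oo z.1)
        (Subsingleton.elim (α := (ClSub.quotMod I).presheaf.stalk z.1) _ _)
      obtain ⟨b, hb⟩ := himg w
      have hub : (1 : X.presheaf.stalk z.1) = b * a :=
        (oo_bijective z.1).1 (((one_smul _ (oo z.1)).trans hw.symm).trans hb)
      refine le_antisymm ((valAt_le_one_iff k X hdim z _).2 ⟨a, rfl⟩) ?_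
      calc (1 : WithZero (Multiplicative ℤ))
          = (pl k X hdim z).1 (algebraMap (X.presheaf.stalk z.1) X.functionField 1) := by
            rw [map_one]; exact (map_one _).symm
        _ ≤ _ := by
            rw [hub, map_mul, map_mul]
            exact mul_le_of_le_one_left' ((valAt_le_one_iff k X hdim z _).2 ⟨b, rfl⟩)
  have hD : IsDivisorOfModule k hdim (divisor k hdim hN he₀ h₀) := by
    refine ⟨N, hN, U₀, e₀, he₀, h₀, rfl, ?_⟩
    have e1 := congrArg FunFld.Divisor.deg key
    rw [FFLib.Divisor.deg_add, FFLib.Divisor.deg_neg, FFLib.deg_div (isFF k hdim), FFLib.Divisor.deg_neg,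
      FFLib.Divisor.deg_single, deg_pl, neg_zero, add_zero, one_mul] at e1
    rw [e1]
    exact (CurveEmbed.deg_point k x.2).symm
  have h2 := hD.add_div k hdim c⁻¹
  rw [FFLib.div_inv (isFF k hdim), key] at h2
  exact h2

theorem isDivisorOfModule_all (D : FunFld.Divisor k X.functionField) : IsDivisorOfModule k hdim D := by
  have hone : ∀ P, IsDivisorOfModule k hdim (Finsupp.single P (1 : ℤ)) := fun P => by
    obtain ⟨x, rfl⟩ := (pl k X hdim).surjective P
    simpa using (isDivisorOfModule_point k hdim x).neg k hdim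
  induction D using Finsupp.induction_linear with
  | zero => exact isDivisorOfModule_zero k hdim
  | add f g hf hg => exact hf.add k hdim hg
  | single P n =>
    induction n using Int.induction_on with
    | zero => rw [Finsupp.single_zero]; exact isDivisorOfModule_zero k hdim
    | succ i hi => rw [Finsupp.single_add]; exact hi.add k hdim (hone P)
    | pred i hi =>
      rw [sub_eq_add_neg, Finsupp.single_add, Finsupp.single_neg (a := P) (b := (1 : ℤ))]
      exact hi.add k hdim ((hone P).neg k hdim)

end Groth.Agent.CurveFin75
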