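import Groth.Agent.CurveFin75.Degree
import Groth.Agent.FFLib.Weil.RH
import Groth.Agent.FFLib.Schmidt
import Groth.Agent.ZetaLib.PointsOfExt
import Groth.Agent.ZetaLib.ZetaProduct
import Groth.Agent.H23.KLBasic
import Groth.Prelude.Def_W4c1zetahwZeta
import Groth.Prelude.Def_Pic

/-!
Point counts, zeta function and divisor classes of a smooth proper curve over a finite field.
-/

noncomputable section

set_option linter.style.haveILetI false
set_option linter.unusedSectionVars false
set_option backward.isDefEq.respectTransparency false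
set_option backward.isDefEq.respectTransparency.types false

universe u

open CategoryTheory CategoryTheory.Limits AlgebraicGeometry TopologicalSpace Opposite

open Groth.Agent.WeilLib (HasLogDeriv)

namespace Groth.Agent.CurveFin75

theorem main_term_gt (g q ℓ : ℕ) (hq : 2 ≤ q) (hℓ : 8 * g + 4 * q + 6 ≤ ℓ) :
    4 * (g : ℝ) * Real.sqrt q ^ ℓ < (q : ℝ) ^ ℓ - q := by
  have key : ∀ n a : ℕ, 2 * a + 1 ≤ n → a ^ 2 < 2 ^ n := by
    intro n a ha
    calc a ^ 2 < (2 ^ a) ^ 2 := Nat.pow_lt_pow_left Nat.lt_two_pow_self two_ne_zero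
      _ = 2 ^ (2 * a) := by rw [← pow_mul, mul_comm]
      _ ≤ 2 ^ n := Nat.pow_le_pow_right (by norm_num) (by omega)
  have h2 : (4 * g + q + 1) ^ 2 < q ^ ℓ :=
    (key ℓ _ (by omega)).trans_le (Nat.pow_le_pow_left hq ℓ)
  have h4 : ((4 * g + q + 1 : ℕ) : ℝ) ^ 2 < (q : ℝ) ^ ℓ := by exact_mod_cast h2
  push_cast at h4
  set s := Real.sqrt (q : ℝ) ^ ℓ with hs
  have hs2 : s * s = (q : ℝ) ^ ℓ := by rw [hs, ← mul_pow, Real.mul_self_sqrt (by positivity)]
  have hs0 : 0 ≤ s := pow_nonneg (Real.sqrt_nonneg _) ℓ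
  have hlb : (4 * g + q + 1 : ℝ) < s := by nlinarith
  nlinarith

open Groth.Agent.CurveFF

attribute [local instance] ffAlg Curv2.resAlgebra

/-- A function field over a finite field has places of every large prime degree. -/
theorem exists_place_of_prime {k K : Type*} [Field k] [Finite k] [Field K] [Algebra k K]
    (hK : FunFld.IsFunctionField k K) {ℓ : ℕ} (hℓ : ℓ.Prime)
    (hle : 8 * FunFld.genus k K + 4 * Nat.card k + 6 ≤ ℓ) : ∃ P : FunFld.Place k K, P.deg = ℓ := by
  classical
  obtain ⟨α, hα, hnorm⟩ := FFLib.norm_sq_root hK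
  have hq : 2 ≤ Nat.card k := Finite.one_lt_card
  by_contra hno
  push Not at hno
  haveI : IsEmpty {P : FunFld.Place k K // P.deg = ℓ} := ⟨fun P => hno P.1 P.2⟩
  have hc : FFLib.placeCount k K ℓ = FFLib.placeCount k K 1 := by
    rw [FFLib.placeCount, FFLib.placeCount, hℓ.divisors, Finset.sum_pair hℓ.one_lt.ne, Nat.card_of_isEmpty (α := {P : FunFld.Place k K // P.deg = ℓ}),
      mul_zero, add_zero, Nat.divisors_one, Finset.sum_singleton]
  have e1 := FFLib.placeCount_eq hK.1 α hα (n := ℓ) hℓ.one_lt.le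
  have e2 := FFLib.placeCount_eq hK.1 α hα (n := 1) le_rfl
  rw [hc, e2] at e1
  have e3 : (((Nat.card k) : ℂ) ^ ℓ - (Nat.card k : ℂ)) = ∑ i, α i ^ ℓ - ∑ i, α i := by
    simp only [pow_one] at e1
    linear_combination -e1
  have hnα : ∀ i, ‖α i‖ = Real.sqrt (Nat.card k) := fun i => by rw [← hnorm i, Real.sqrt_sq (norm_nonneg _)]
  have hsq : 1 ≤ Real.sqrt (Nat.card k) := Real.one_le_sqrt.2 (by exact_mod_cast (by omega : 1 ≤ Nat.card k))
  have hsum : ‖∑ i, α i ^ ℓ - ∑ i, α i‖ ≤ 4 * (FunFld.genus k K) * Real.sqrt (Nat.card k) ^ ℓ := by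
    rw [← Finset.sum_sub_distrib]
    refine (norm_sum_le _ _).trans ?_
    have : ∀ i, ‖α i ^ ℓ - α i‖ ≤ 2 * Real.sqrt (Nat.card k) ^ ℓ := fun i => by
      refine (norm_sub_le _ _).trans ?_
      rw [norm_pow, hnα, two_mul]
      gcongr
      exact le_self_pow₀ hsq (by omega)
    refine (Finset.sum_le_sum fun i _ => this i).trans (le_of_eq ?_)
    rw [Finset.sum_const, Finset.card_univ, Fintype.card_fin, nsmul_eq_mul]
    push_cast
    ring
  rw [← e3] at hsum
  have hre : ((Nat.card k) : ℝ) ^ ℓ - (Nat.card k : ℝ) ≤ ‖((Nat.card k) : ℂ) ^ ℓ - (Nat.card k : ℂ)‖ := by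
    rw [show ((Nat.card k) : ℂ) ^ ℓ - (Nat.card k : ℂ) = (((((Nat.card k) : ℝ) ^ ℓ - (Nat.card k : ℝ) : ℝ)) : ℂ) by push_cast; ring, Complex.norm_real,
      Real.norm_eq_abs]
    exact le_abs_self _
  exact absurd (main_term_gt (FunFld.genus k K) (Nat.card k) ℓ hq hle) (not_lt.2 (hre.trans hsum))

variable {X : Scheme.{u}} [IsIntegral X]
variable (k : Type u) [Field k] [Finite k] [X.Over (Spec (CommRingCat.of k))]
  [IsProper (X ↘ Spec (CommRingCat.of k))] [Smooth (X ↘ Spec (CommRingCat.of k))]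
  (hdim : topologicalKrullDim X = 1)

include hdim

theorem residueDegree_eq_deg (z : Pt X) :
    EGA4loc.residueDegree (X ↘ Spec (CommRingCat.of k)) z.1 = (pl k X hdim z).deg := by
  have h1 := ZetaLib.card_residueField_eq (X ↘ Spec (CommRingCat.of k)) z.2
  haveI : Finite (X.residueField z.1) :=
    ZetaLib.finite_residueField ((X ↘ Spec (CommRingCat.of k)) ≫ ZetaLib.toSpecZ k) z.2
  haveI : Module.Finite k (X.residueField z.1) := Module.Finite.of_finite
  rw [Module.natCard_eq_pow_finrank (K := k) (V := X.residueField z.1)] at h1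
  rw [deg_pl]
  exact (Nat.pow_right_injective (Finite.one_lt_card (α := k)) h1).symm

theorem nPts_eq_placeCount (m : ℕ) :
    Zeta.nPts (X ↘ Spec (CommRingCat.of k)) m = FFLib.placeCount k X.functionField m := by
  refine Finset.sum_congr rfl fun e _ => congrArg (e * ·) ?_
  exact Nat.card_congr ((Equiv.subtypeSubtypeEquivSubtypeInter
    (fun x : X => IsClosed ({x} : Set X)) (fun x => EGA4loc.residueDegree (X ↘ Spec (CommRingCat.of k)) x = e)).symm.trans
    ((pl k X hdim).subtypeEquiv fun z => by rw [residueDegree_eq_deg k hdim z]))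

theorem pointCount_eq_placeCount (k' : Type u) [Field k'] [Algebra k k'] [Finite k'] :
    SgaExt.pointCount (X ↘ Spec (CommRingCat.of k)) k' =
      FFLib.placeCount k X.functionField (Module.finrank k k') :=
  (ZetaLib.pointCount_eq_nPts _ k').trans (nPts_eq_placeCount k hdim _)

variable (h0 : Module.finrank k (Coh.HH X (Coh.structureModule X) 0) = 1)

include h0

theorem genus_eq_of_card {g : ℕ}
    (hg : Nat.card (Coh.HH X (Coh.structureModule X) 1) = Nat.card k ^ g) :
    FunFld.genus k X.functionField = g := by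
  haveI := CurveCohLib.isNoetherian_of_proper (k := k) (X := X)
  haveI := CurveCohLib.finite_HH (k := k) (QCoh.isCoh_structureModule' (X := X)) 1
  rw [genus_eq k hdim h0]
  rw [Module.natCard_eq_pow_finrank (K := k)] at hg
  exact Nat.pow_right_injective (Finite.one_lt_card (α := k)) hg

/-- The zeta function of the curve is the zeta series of its function field. -/
theorem zetaFun_eq : Zeta.zetaFun (X ↘ Spec (CommRingCat.of k)) =
    PowerSeries.map (Int.castRingHom ℚ) (FunFld.zetaZ k X.functionField) := by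
  have hF := (isFunctionField k hdim h0).1
  refine HasLogDeriv.unique (ZetaLib.hasLogDeriv_zetaFun _) ?_ ?_
  · rw [HasLogDeriv]
    ext n
    rw [PowerSeries.coeff_derivative, PowerSeries.coeff_mul, PowerSeries.coeff_map, FunFld.zetaZ,
      PowerSeries.coeff_mk, Finset.Nat.sum_antidiagonal_eq_sum_range_succ_mk]
    have h := congrArg (Nat.cast : ℕ → ℚ) (FFLib.mul_effDivCount (k := k) (K := X.functionField) hF (n + 1))
    push_cast at h
    rw [show (Int.castRingHom ℚ) (FunFld.effDivCount k X.functionField (n + 1) : ℤ) =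
      (FunFld.effDivCount k X.functionField (n + 1) : ℚ) by simp, mul_comm, h]
    refine Finset.sum_bij' (fun m _ => n + 1 - m) (fun i _ => n + 1 - i)
      (fun m hm => by simp only [Finset.mem_Icc, Finset.mem_range] at hm ⊢; omega)
      (fun i hi => by simp only [Finset.mem_Icc, Finset.mem_range] at hi ⊢; omega)
      (fun m hm => by simp only [Finset.mem_Icc] at hm; omega)
      (fun i hi => by simp only [Finset.mem_range] at hi; omega)
      fun m hm => ?_
    simp only [Finset.mem_Icc] at hm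
    rw [PowerSeries.coeff_map, PowerSeries.coeff_mk, PowerSeries.coeff_mk,
      show n - (n + 1 - m) + 1 = m by omega, nPts_eq_placeCount k hdim]
    simp [mul_comm]
  · rw [ZetaLib.constantCoeff_zetaFun, ← PowerSeries.coeff_zero_eq_constantCoeff_apply,
      PowerSeries.coeff_map, FunFld.zetaZ, PowerSeries.coeff_mk]
    have h1 : FunFld.effDivCount k X.functionField 0 = 1 := by
      have := FFLib.constantCoeff_numerZ hF
      rw [FunFld.numerZ, FunFld.zetaZ, PowerSeries.coeff_zero_eq_constantCoeff_apply,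
        map_mul, map_mul, map_sub, map_sub, map_one, map_mul, PowerSeries.constantCoeff_X, mul_zero, sub_zero, one_mul,
        one_mul, ← PowerSeries.coeff_zero_eq_constantCoeff_apply, PowerSeries.coeff_mk] at this
      exact_mod_cast this
    simp [h1]

omit hdim h0 in
/-- The isomorphism classes of invertible modules of given degree. -/
abbrev PicDeg (m : ℤ) : Type (u + 1) :=
  {c : PicF.Cl X // ∃ L : X.Modules, PicF.cl L = c ∧ PicF.IsInvertible L ∧ Curv2.deg k X L 1 = m}

/-- Classes of degree `m` are in bijection with the divisor classes of degree zero. -/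
theorem nonempty_picDeg_equiv (m : ℤ) :
    Nonempty (FFLib.Pic0 k X.functionField ≃ PicDeg (X := X) k m) := by
  have hK := isFunctionField k hdim h0
  obtain ⟨D₁, hD₁⟩ := FFLib.exists_deg_one hK
  let shift : FFLib.Pic0 k X.functionField → FunFld.Divisor k X.functionField :=
    fun c => FFLib.rep c + m • D₁
  have hshift : ∀ c, (shift c).deg = m := fun c => by
    rw [FFLib.Divisor.deg_add, FFLib.deg_rep, FFLib.deg_zsmul, hD₁, zero_add, mul_one]
  choose L hL U e he hU hdiv hdeg using fun c => isDivisorOfModule_all k hdim (shift c)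
  let Φ : FFLib.Pic0 k X.functionField → PicDeg (X := X) k m := fun c =>
    ⟨PicF.cl (L c), L c, rfl, hL c, (hdeg c).symm.trans (hshift c)⟩
  refine ⟨Equiv.ofBijective Φ ⟨fun c c' hcc => ?_, ?_⟩⟩
  · obtain ⟨φ⟩ := (PicGrp.cl_eq_cl_iff (L c) (L c')).1 (congrArg Subtype.val hcc)
    have h1 := divisor_iso k hdim (hL c) (he c) (hU c) (hL c') φ
    rw [hdiv c] at h1
    have h2 := divisor_change k hdim (hL c') (InvX.IsFrame.map_iso φ (he c)) (hU c) (he c') (hU c')
    rw [hdiv c', h1] at h2
    have h3 : FFLib.rep c - FFLib.rep c' ∈ FunFld.prinDivs k X.functionField := by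
      obtain ⟨x, hx'⟩ : ∃ x : X.functionField, shift c = shift c' - FunFld.div k x := ⟨_, h2⟩
      have hx : FFLib.rep c - FFLib.rep c' = -FunFld.div k x := by
        rw [sub_eq_add_neg _ (FunFld.div k x)] at hx'
        simp only [shift] at hx'
        linear_combination (norm := module) (1 : ℤ) • hx'
      rw [hx, ← FFLib.div_inv hK.1]
      exact AddSubgroup.subset_closure ⟨_, rfl⟩
    rw [← (FFLib.mk_eq_iff (FFLib.deg_rep c) c').2 h3]
    exact (QuotientAddGroup.out_eq' c).symm
  · rintro ⟨_, M, rfl, hM, hdM⟩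
    obtain ⟨V, hV, f, hf⟩ := InvX.exists_frame hM (genericPoint X)
    let D := divisor k hdim hM hf hV - m • D₁
    have hD : D.deg = 0 := by
      rw [FFLib.Divisor.deg_sub, FFLib.deg_zsmul, hD₁, mul_one, deg_divisor k hdim hM hf hV, hdM, sub_self]
    let c : FFLib.Pic0 k X.functionField := QuotientAddGroup.mk ⟨D, FFLib.mem_ker_degHom.2 hD⟩
    obtain ⟨z, -, hz⟩ := (FFLib.mem_prinDivs hK.1).1 ((FFLib.mk_eq_iff hD c).1 rfl)
    refine ⟨c, Subtype.ext ((PicGrp.cl_eq_cl_iff _ _).2 ?_)⟩
    refine nonempty_iso_of_sub_eq_div k hdim (hL c) (he c) (hU c) hM hf hV (c := z⁻¹) ?_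
    rw [hdiv c, FFLib.div_inv hK.1, hz]
    simp only [shift, D]
    abel

theorem picDeg_finite (m : ℤ) : Finite (PicDeg (X := X) k m) := by
  haveI := FFLib.finite_pic0 (k := k) (isFunctionField k hdim h0).1
  obtain ⟨e⟩ := nonempty_picDeg_equiv k hdim h0 m
  exact Finite.of_equiv _ e

theorem picDeg_nonempty (m : ℤ) : Nonempty (PicDeg (X := X) k m) := by
  obtain ⟨e⟩ := nonempty_picDeg_equiv k hdim h0 m
  exact ⟨e (QuotientAddGroup.mk 0)⟩

theorem card_picDeg (m : ℤ) :
    Nat.card (PicDeg (X := X) k m) = FunFld.classNum k X.functionField := by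
  obtain ⟨e⟩ := nonempty_picDeg_equiv k hdim h0 m
  exact (Nat.card_congr e).symm

/-- Two closed points of coprime degrees. -/
theorem exists_coprime_degrees :
    ∃ z w : Pt X, Nat.Coprime (pl k X hdim z).deg (pl k X hdim w).deg := by
  have hK := isFunctionField k hdim h0
  obtain ⟨p, hp, hpp⟩ := Nat.exists_infinite_primes (8 * FunFld.genus k X.functionField + 4 * Nat.card k + 6)
  obtain ⟨p', hp', hpp'⟩ := Nat.exists_infinite_primes (p + 1)
  obtain ⟨P, hP⟩ := exists_place_of_prime hK hpp hp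
  obtain ⟨P', hP'⟩ := exists_place_of_prime hK hpp' (by omega)
  refine ⟨(pl k X hdim).symm P, (pl k X hdim).symm P', ?_⟩
  rw [Equiv.apply_symm_apply, Equiv.apply_symm_apply, hP, hP']
  exact (Nat.coprime_primes hpp hpp').2 (by omega)

end Groth.Agent.CurveFin75
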